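import Mathlib.Algebra.Homology.ShortComplex.Abelian
import Mathlib.Algebra.Homology.ShortComplex.Preadditive
import Mathlib.Algebra.Homology.ShortComplex.Exact
import Mathlib.CategoryTheory.Preadditive.Biproducts

/-!
# Homology of a direct sum of short complexes (helper16)

`biprodSC S S'` is the termwise direct sum of two short complexes; its homology is the direct sum
of the homologies (`homologyBiprodIso`).
-/

set_option autoImplicit false
universe v u

namespace Groth.Agent.Lib.Helper16

namespace SerreK0

open CategoryTheory CategoryTheory.Limits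

variable {C : Type u} [Category.{v} C] [Abelian C]

/-- termwise direct sum of short complexes -/
noncomputable abbrev biprodSC (S S' : ShortComplex C) : ShortComplex C :=
  ShortComplex.mk (biprod.map S.f S'.f) (biprod.map S.g S'.g) (by
    ext <;> simp)

variable (S S' : ShortComplex C)

/-- inclusion of the first summand -/
@[simps]
noncomputable def biprodSC.inl : S ⟶ biprodSC S S' where
  τ₁ := biprod.inl
  τ₂ := biprod.inl
  τ₃ := biprod.inl
  comm₁₂ := by simp
  comm₂₃ := by simp

/-- inclusion of the second summand -/
@[simps]
noncomputable def biprodSC.inr : S' ⟶ biprodSC S S' where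
  τ₁ := biprod.inr
  τ₂ := biprod.inr
  τ₃ := biprod.inr
  comm₁₂ := by simp
  comm₂₃ := by simp

/-- projection to the first summand -/
@[simps]
noncomputable def biprodSC.fst : biprodSC S S' ⟶ S where
  τ₁ := biprod.fst
  τ₂ := biprod.fst
  τ₃ := biprod.fst
  comm₁₂ := by simp
  comm₂₃ := by simp

/-- projection to the second summand -/
@[simps]
noncomputable def biprodSC.snd : biprodSC S S' ⟶ S' where
  τ₁ := biprod.snd
  τ₂ := biprod.snd
  τ₃ := biprod.snd
  comm₁₂ := by simp
  comm₂₃ := by simp

/-- the bicone on homology -/
noncomputable def homologyBicone : BinaryBicone S.homology S'.homology where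
  pt := (biprodSC S S').homology
  fst := ShortComplex.homologyMap (biprodSC.fst S S')
  snd := ShortComplex.homologyMap (biprodSC.snd S S')
  inl := ShortComplex.homologyMap (biprodSC.inl S S')
  inr := ShortComplex.homologyMap (biprodSC.inr S S')
  inl_fst := by
    rw [← ShortComplex.homologyMap_comp]
    have : biprodSC.inl S S' ≫ biprodSC.fst S S' = 𝟙 S := by ext <;> simp
    rw [this, ShortComplex.homologyMap_id]
  inl_snd := by
    rw [← ShortComplex.homologyMap_comp]
    have : biprodSC.inl S S' ≫ biprodSC.snd S S' = 0 := by ext <;> simp
    rw [this, ShortComplex.homologyMap_zero]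
  inr_fst := by
    rw [← ShortComplex.homologyMap_comp]
    have : biprodSC.inr S S' ≫ biprodSC.fst S S' = 0 := by ext <;> simp
    rw [this, ShortComplex.homologyMap_zero]
  inr_snd := by
    rw [← ShortComplex.homologyMap_comp]
    have : biprodSC.inr S S' ≫ biprodSC.snd S S' = 𝟙 S' := by ext <;> simp
    rw [this, ShortComplex.homologyMap_id]

lemma homologyBicone_total :
    (homologyBicone S S').fst ≫ (homologyBicone S S').inl +
      (homologyBicone S S').snd ≫ (homologyBicone S S').inr = 𝟙 _ := by
  change ShortComplex.homologyMap (biprodSC.fst S S') ≫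
      ShortComplex.homologyMap (biprodSC.inl S S') +
    ShortComplex.homologyMap (biprodSC.snd S S') ≫
      ShortComplex.homologyMap (biprodSC.inr S S') = 𝟙 (biprodSC S S').homology
  rw [← ShortComplex.homologyMap_comp, ← ShortComplex.homologyMap_comp,
    ← ShortComplex.homologyMap_add]
  have : biprodSC.fst S S' ≫ biprodSC.inl S S' + biprodSC.snd S S' ≫ biprodSC.inr S S' =
      𝟙 (biprodSC S S') := by
    ext <;> simp [biprod.total]
  rw [this, ShortComplex.homologyMap_id]

/-- homology of a direct sum is the direct sum of the homologies -/
noncomputable def homologyBiprodIso :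
    (biprodSC S S').homology ≅ S.homology ⊞ S'.homology :=
  biprod.uniqueUpToIso _ _ (isBinaryBilimitOfTotal _ (homologyBicone_total S S'))

end SerreK0

end Groth.Agent.Lib.Helper16
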