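import Mathlib.CategoryTheory.IsomorphismClasses
import Mathlib.CategoryTheory.Abelian.Basic
import Mathlib.CategoryTheory.Limits.Shapes.BinaryBiproducts
import Mathlib.GroupTheory.MonoidLocalization.GrothendieckGroup

/-!
# The commutative monoid of isomorphism classes of objects under `⊞` (helper16)
-/

set_option autoImplicit false
universe v u

namespace Groth.Agent.Lib.Helper16

namespace SerreK0

open CategoryTheory CategoryTheory.Limits ZeroObject

variable (C : Type u) [Category.{v} C] [Abelian C]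

/-- isomorphism classes of objects -/
def IsoCl : Type u := Quotient (isIsomorphicSetoid C)

variable {C}

/-- the class of an object -/
def IsoCl.mk (X : C) : IsoCl C := Quotient.mk (isIsomorphicSetoid C) X

lemma IsoCl.mk_eq_mk_iff {X Y : C} : IsoCl.mk X = IsoCl.mk Y ↔ Nonempty (X ≅ Y) :=
  ⟨fun h => Quotient.exact h, fun h => Quotient.sound h⟩

lemma IsoCl.mk_eq_of_iso {X Y : C} (e : X ≅ Y) : IsoCl.mk X = IsoCl.mk Y :=
  IsoCl.mk_eq_mk_iff.2 ⟨e⟩

lemma IsoCl.exists_rep (a : IsoCl C) : ∃ X : C, IsoCl.mk X = a :=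
  Quotient.exists_rep a

noncomputable instance : Add (IsoCl C) where
  add := Quotient.map₂ (fun X Y => X ⊞ Y) (by
    rintro X X' ⟨e⟩ Y Y' ⟨e'⟩
    exact ⟨biprod.mapIso e e'⟩)

noncomputable instance : Zero (IsoCl C) where
  zero := IsoCl.mk 0

lemma IsoCl.mk_add (X Y : C) : IsoCl.mk X + IsoCl.mk Y = IsoCl.mk (X ⊞ Y) := rfl

lemma IsoCl.zero_def : (0 : IsoCl C) = IsoCl.mk 0 := rfl

lemma IsoCl.mk_eq_zero {X : C} (hX : IsZero X) : IsoCl.mk X = 0 :=
  IsoCl.mk_eq_of_iso hX.isoZero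

lemma IsoCl.isZero_of_mk_eq_zero {X : C} (h : IsoCl.mk X = 0) : IsZero X := by
  obtain ⟨e⟩ := IsoCl.mk_eq_mk_iff.1 h
  exact IsZero.of_iso (isZero_zero C) e

noncomputable instance : AddCommMonoid (IsoCl C) where
  add_assoc := by
    rintro ⟨X⟩ ⟨Y⟩ ⟨Z⟩
    exact IsoCl.mk_eq_of_iso (biprod.associator X Y Z)
  zero_add := by
    rintro ⟨X⟩
    exact IsoCl.mk_eq_of_iso (isoZeroBiprod (isZero_zero C)).symm
  add_zero := by
    rintro ⟨X⟩
    exact IsoCl.mk_eq_of_iso (isoBiprodZero (isZero_zero C)).symm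
  add_comm := by
    rintro ⟨X⟩ ⟨Y⟩
    exact IsoCl.mk_eq_of_iso (biprod.braiding X Y)
  nsmul := nsmulRec

end SerreK0

end Groth.Agent.Lib.Helper16
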