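import Groth.Agent.Lib.Helper16.SerreK0.Biprod
import Groth.Agent.Lib.Helper16.SerreK0.IsoCl
import Mathlib.Algebra.Homology.ShortComplex.ShortExact

/-!
# Pairs `A ⇄ B` with both composites zero, and their two homology objects (helper16)

`PairRel a b hA hB` : there is a pair `α : A ⟶ B`, `β : B ⟶ A` with `α ≫ β = 0`, `β ≫ α = 0`,
`[A] = a`, `[B] = b`, and homology at `A` of class `hA`, homology at `B` of class `hB`.
-/

set_option autoImplicit false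
set_option linter.unusedSectionVars false
universe v u

namespace Groth.Agent.Lib.Helper16

namespace SerreK0

open CategoryTheory CategoryTheory.Limits ZeroObject

variable {C : Type u} [Category.{v} C] [Abelian C]

/-- a pair of morphisms `A ⇄ B` with both composites zero -/
structure Pair (C : Type u) [Category.{v} C] [Abelian C] where
  /-- first object -/
  A : C
  /-- second object -/
  B : C
  /-- forward map -/
  α : A ⟶ B
  /-- backward map -/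
  β : B ⟶ A
  h₁ : α ≫ β = 0
  h₂ : β ≫ α = 0

namespace Pair

/-- the short complex `B ⟶ A ⟶ B` -/
abbrev scA (p : Pair C) : ShortComplex C := ShortComplex.mk p.β p.α p.h₂

/-- the short complex `A ⟶ B ⟶ A` -/
abbrev scB (p : Pair C) : ShortComplex C := ShortComplex.mk p.α p.β p.h₁

/-- homology at `A` -/
noncomputable abbrev HA (p : Pair C) : C := p.scA.homology

/-- homology at `B` -/
noncomputable abbrev HB (p : Pair C) : C := p.scB.homology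

/-- swap the roles of `A` and `B` -/
def swap (p : Pair C) : Pair C := ⟨p.B, p.A, p.β, p.α, p.h₂, p.h₁⟩

/-- direct sum of pairs -/
noncomputable def add (p q : Pair C) : Pair C where
  A := p.A ⊞ q.A
  B := p.B ⊞ q.B
  α := biprod.map p.α q.α
  β := biprod.map p.β q.β
  h₁ := by ext <;> simp [p.h₁, q.h₁]
  h₂ := by ext <;> simp [p.h₂, q.h₂]

end Pair

/-- the relation on isomorphism classes defined by pairs -/
def PairRel (a b hA hB : IsoCl C) : Prop :=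
  ∃ p : Pair C, IsoCl.mk p.A = a ∧ IsoCl.mk p.B = b ∧ IsoCl.mk p.HA = hA ∧ IsoCl.mk p.HB = hB

lemma PairRel.swap {a b hA hB : IsoCl C} (h : PairRel a b hA hB) : PairRel b a hB hA := by
  obtain ⟨p, h1, h2, h3, h4⟩ := h
  exact ⟨p.swap, h2, h1, h4, h3⟩

lemma PairRel.add {a b hA hB a' b' hA' hB' : IsoCl C} (h : PairRel a b hA hB)
    (h' : PairRel a' b' hA' hB') : PairRel (a + a') (b + b') (hA + hA') (hB + hB') := by
  obtain ⟨p, rfl, rfl, rfl, rfl⟩ := h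
  obtain ⟨q, rfl, rfl, rfl, rfl⟩ := h'
  refine ⟨p.add q, rfl, rfl, ?_, ?_⟩
  · exact IsoCl.mk_eq_of_iso (homologyBiprodIso p.scA q.scA)
  · exact IsoCl.mk_eq_of_iso (homologyBiprodIso p.scB q.scB)

lemma IsoCl.mk_homology_eq_zero {S : ShortComplex C} (hS : S.Exact) : IsoCl.mk S.homology = 0 :=
  IsoCl.mk_eq_zero (S.exact_iff_isZero_homology.1 hS)

/-- the pair `X ⇄ 0` -/
lemma PairRel.of_obj (X : C) : PairRel (IsoCl.mk X) 0 (IsoCl.mk X) 0 := by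
  refine ⟨⟨X, 0, 0, 0, by simp, by simp⟩, rfl, rfl, ?_, ?_⟩
  · exact IsoCl.mk_eq_of_iso
      (ShortComplex.HomologyData.ofZeros (ShortComplex.mk (0 : (0 : C) ⟶ X) (0 : X ⟶ (0 : C))
        zero_comp) rfl rfl).left.homologyIso
  · exact IsoCl.mk_homology_eq_zero (ShortComplex.exact_of_isZero_X₂ _ (isZero_zero C))

/-- the pair `T ⇄ T` with maps `𝟙` and `0` -/
lemma PairRel.id (T : C) : PairRel (IsoCl.mk T) (IsoCl.mk T) 0 0 := by
  refine ⟨⟨T, T, 𝟙 T, 0, by simp, by simp⟩, rfl, rfl, ?_, ?_⟩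
  · apply IsoCl.mk_homology_eq_zero
    rw [ShortComplex.exact_iff_mono _ rfl]
    dsimp
    infer_instance
  · apply IsoCl.mk_homology_eq_zero
    rw [ShortComplex.exact_iff_epi _ rfl]
    dsimp
    infer_instance

/-- the pair `X₃ ⊞ X₁ ⇄ X₂` attached to a short exact sequence -/
lemma PairRel.of_shortExact {S : ShortComplex C} (hS : S.ShortExact) :
    PairRel (IsoCl.mk S.X₁ + IsoCl.mk S.X₃) (IsoCl.mk S.X₂) 0 0 := by
  have := hS.mono_f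
  have := hS.epi_g
  refine ⟨⟨S.X₃ ⊞ S.X₁, S.X₂, biprod.snd ≫ S.f, S.g ≫ biprod.inl, by simp, by simp⟩,
    ?_, rfl, ?_, ?_⟩
  · rw [add_comm]; rfl
  · apply IsoCl.mk_homology_eq_zero
    -- `X₂ ⟶ X₃ ⊞ X₁ ⟶ X₂`
    let S₀ : ShortComplex C := ShortComplex.mk (biprod.inl : S.X₃ ⟶ S.X₃ ⊞ S.X₁)
      (biprod.snd : S.X₃ ⊞ S.X₁ ⟶ S.X₁) (by simp)
    have h₀ : S₀.Exact := (ShortComplex.Splitting.ofHasBinaryBiproduct S.X₃ S.X₁).exact
    let S₁ : ShortComplex C := ShortComplex.mk (S.g ≫ biprod.inl : S.X₂ ⟶ S.X₃ ⊞ S.X₁)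
      (biprod.snd : S.X₃ ⊞ S.X₁ ⟶ S.X₁) (by simp)
    let φ₁ : S₁ ⟶ S₀ := { τ₁ := S.g, τ₂ := 𝟙 _, τ₃ := 𝟙 _ }
    have : Epi φ₁.τ₁ := hS.epi_g
    have : IsIso φ₁.τ₂ := by dsimp [φ₁]; infer_instance
    have : Mono φ₁.τ₃ := by dsimp [φ₁]; infer_instance
    have h₁ : S₁.Exact := (ShortComplex.exact_iff_of_epi_of_isIso_of_mono φ₁).2 h₀
    let S₂ : ShortComplex C := ShortComplex.mk (S.g ≫ biprod.inl : S.X₂ ⟶ S.X₃ ⊞ S.X₁)
      (biprod.snd ≫ S.f : S.X₃ ⊞ S.X₁ ⟶ S.X₂) (by simp)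
    let φ₂ : S₁ ⟶ S₂ := { τ₁ := 𝟙 _, τ₂ := 𝟙 _, τ₃ := S.f }
    have : Epi φ₂.τ₁ := by dsimp [φ₂]; infer_instance
    have : IsIso φ₂.τ₂ := by dsimp [φ₂]; infer_instance
    have : Mono φ₂.τ₃ := hS.mono_f
    exact (ShortComplex.exact_iff_of_epi_of_isIso_of_mono φ₂).1 h₁
  · apply IsoCl.mk_homology_eq_zero
    -- `X₃ ⊞ X₁ ⟶ X₂ ⟶ X₃ ⊞ X₁`
    let S₁ : ShortComplex C := ShortComplex.mk (biprod.snd ≫ S.f : S.X₃ ⊞ S.X₁ ⟶ S.X₂) S.g
      (by simp)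
    let φ₁ : S₁ ⟶ S := { τ₁ := biprod.snd, τ₂ := 𝟙 _, τ₃ := 𝟙 _ }
    have : Epi φ₁.τ₁ := by dsimp [φ₁]; infer_instance
    have : IsIso φ₁.τ₂ := by dsimp [φ₁]; infer_instance
    have : Mono φ₁.τ₃ := by dsimp [φ₁]; infer_instance
    have h₁ : S₁.Exact := (ShortComplex.exact_iff_of_epi_of_isIso_of_mono φ₁).2 hS.exact
    let S₂ : ShortComplex C := ShortComplex.mk (biprod.snd ≫ S.f : S.X₃ ⊞ S.X₁ ⟶ S.X₂)
      (S.g ≫ biprod.inl : S.X₂ ⟶ S.X₃ ⊞ S.X₁) (by simp)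
    let φ₂ : S₁ ⟶ S₂ := { τ₁ := 𝟙 _, τ₂ := 𝟙 _, τ₃ := biprod.inl }
    have : Epi φ₂.τ₁ := by dsimp [φ₂]; infer_instance
    have : IsIso φ₂.τ₂ := by dsimp [φ₂]; infer_instance
    have : Mono φ₂.τ₃ := by dsimp [φ₂]; infer_instance
    exact (ShortComplex.exact_iff_of_epi_of_isIso_of_mono φ₂).1 h₁

/-- from a pair with `A ≅ B`, a 2-periodic complex on `A` -/
lemma PairRel.exists_periodic {a hA hB : IsoCl C} (h : PairRel a a hA hB) :
    ∃ (M : C) (φ ψ : M ⟶ M) (h₁ : φ ≫ ψ = 0) (h₂ : ψ ≫ φ = 0),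
      IsoCl.mk (ShortComplex.mk φ ψ h₁).homology = hB ∧
      IsoCl.mk (ShortComplex.mk ψ φ h₂).homology = hA := by
  obtain ⟨p, h1, h2, rfl, rfl⟩ := h
  obtain ⟨σ⟩ := IsoCl.mk_eq_mk_iff.1 (h1.trans h2.symm)
  have e₁ : (p.α ≫ σ.inv) ≫ (σ.hom ≫ p.β) = 0 := by simp [p.h₁]
  have e₂ : (σ.hom ≫ p.β) ≫ (p.α ≫ σ.inv) = 0 := by
    rw [Category.assoc, reassoc_of% p.h₂]; simp
  refine ⟨p.A, p.α ≫ σ.inv, σ.hom ≫ p.β, e₁, e₂, ?_, ?_⟩
  · let e : ShortComplex.mk (p.α ≫ σ.inv) (σ.hom ≫ p.β) e₁ ≅ p.scB :=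
      ShortComplex.isoMk (Iso.refl _) σ (Iso.refl _) (by simp) (by simp)
    exact IsoCl.mk_eq_of_iso (ShortComplex.homologyMapIso e)
  · let e : ShortComplex.mk (σ.hom ≫ p.β) (p.α ≫ σ.inv) e₂ ≅ p.scA :=
      ShortComplex.isoMk σ (Iso.refl _) σ (by simp) (by simp)
    exact IsoCl.mk_eq_of_iso (ShortComplex.homologyMapIso e)

end SerreK0

end Groth.Agent.Lib.Helper16
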