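import Groth.Prelude.Def_KZero
import Groth.Agent.Lib.Helper16.SerreK0.Pairs

/-!
# Equality of classes in `K₀` of an abelian category and 2-periodic complexes (helper16)

`exists_periodic_of_cl_eq` : if `[D₁] = [D₂]` in `K₀(A)`, there is a 2-periodic complex
`(M, φ, ψ)` with `H(φ, ψ) ≅ D₁` and `H(ψ, φ) ≅ D₂`.
-/

set_option autoImplicit false
set_option linter.unusedSectionVars false
universe v u

namespace Groth.Agent.Lib.Helper16

namespace SerreK0

open CategoryTheory CategoryTheory.Limits ZeroObject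

variable {C : Type u} [Category.{v} C] [Abelian C]

/-- the Grothendieck group of the monoid of isomorphism classes -/
abbrev GIso (C : Type u) [Category.{v} C] [Abelian C] : Type u :=
  Algebra.GrothendieckAddGroup (IsoCl C)

/-- class of an object in `GIso` -/
noncomputable abbrev gcl (X : C) : GIso C := Algebra.GrothendieckAddGroup.of (IsoCl.mk X)

/-- the canonical map from the free abelian group on objects -/
noncomputable def theta : FreeAbelianGroup C →+ GIso C :=
  FreeAbelianGroup.lift (fun X => gcl X)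

@[simp] lemma theta_of (X : C) : theta (FreeAbelianGroup.of X) = gcl X := by
  simp [theta]

lemma pairRel_zero : PairRel (0 : IsoCl C) 0 0 0 := by
  simpa [IsoCl.zero_def] using PairRel.id (0 : C)

/-- the subgroup of differences `[p] - [q]` for "exact pairs" `q ⇄ p` -/
def relSubgroup (C : Type u) [Category.{v} C] [Abelian C] : AddSubgroup (GIso C) where
  carrier := {g | ∃ p q : IsoCl C, PairRel q p 0 0 ∧
    g = Algebra.GrothendieckAddGroup.of p - Algebra.GrothendieckAddGroup.of q}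
  zero_mem' := ⟨0, 0, pairRel_zero, by simp⟩
  add_mem' := by
    rintro _ _ ⟨p, q, h, rfl⟩ ⟨p', q', h', rfl⟩
    refine ⟨p + p', q + q', by simpa using h.add h', ?_⟩
    rw [map_add, map_add]; abel
  neg_mem' := by
    rintro _ ⟨p, q, h, rfl⟩
    exact ⟨q, p, h.swap, by abel⟩

lemma theta_mem_relSubgroup {z : FreeAbelianGroup C} (hz : z ∈ KZero.relAb C) :
    theta z ∈ relSubgroup C := by
  have : KZero.relAb C ≤ (relSubgroup C).comap theta := by
    rw [KZero.relAb, AddSubgroup.closure_le]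
    rintro x ⟨S, hS, rfl⟩
    refine ⟨IsoCl.mk S.X₂, IsoCl.mk S.X₁ + IsoCl.mk S.X₃, PairRel.of_shortExact hS, ?_⟩
    simp only [map_sub, theta_of, map_add]
    abel
  exact this hz

theorem exists_periodic_of_cl_eq {D₁ D₂ : C} (h : (KZero.cl D₁ : KZero.K0 C) = KZero.cl D₂) :
    ∃ (M : C) (φ ψ : M ⟶ M) (h₁ : φ ≫ ψ = 0) (h₂ : ψ ≫ φ = 0),
      Nonempty ((ShortComplex.mk φ ψ h₁).homology ≅ D₁) ∧
      Nonempty ((ShortComplex.mk ψ φ h₂).homology ≅ D₂) := by
  have hz : FreeAbelianGroup.of D₁ - FreeAbelianGroup.of D₂ ∈ KZero.relAb C := by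
    have := (QuotientAddGroup.eq (s := KZero.relAb C)).1 h.symm
    rwa [neg_add_eq_sub] at this
  obtain ⟨p, q, hpq, e⟩ := theta_mem_relSubgroup hz
  simp only [map_sub, theta_of] at e
  have e' : Algebra.GrothendieckAddGroup.of (IsoCl.mk D₁ + q) =
      Algebra.GrothendieckAddGroup.of (IsoCl.mk D₂ + p) := by
    rw [map_add, map_add]
    have := sub_eq_sub_iff_add_eq_add.1 e
    rw [this]; abel
  obtain ⟨c, ht⟩ :=
    (AddLocalization.addMonoidOf (⊤ : AddSubmonoid (IsoCl C))).eq_iff_exists.1 e'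
  obtain ⟨T, hT⟩ := IsoCl.exists_rep (c : IsoCl C)
  rw [← hT] at ht
  -- assemble the pair
  have P := ((((PairRel.of_obj D₁).add hpq).add (PairRel.id T)).add (PairRel.of_obj D₂).swap).swap
  have ea : IsoCl.mk D₁ + q + IsoCl.mk T + 0 = 0 + p + IsoCl.mk T + IsoCl.mk D₂ := by
    rw [add_zero, zero_add, add_comm (IsoCl.mk D₁ + q), ht]
    abel
  rw [ea] at P
  obtain ⟨M, φ, ψ, h₁, h₂, e₁, e₂⟩ := P.exists_periodic
  refine ⟨M, φ, ψ, h₁, h₂, IsoCl.mk_eq_mk_iff.1 ?_, IsoCl.mk_eq_mk_iff.1 ?_⟩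
  · rw [e₁]; simp
  · rw [e₂]; simp

end SerreK0

end Groth.Agent.Lib.Helper16
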