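import Groth.Agent.Lib.Helper16.K0Db.Euler

/-!
# Basic API for `KZero.K0 A` and `KZero.K0sub P` (helper16)
-/

set_option autoImplicit false
set_option linter.unusedSectionVars false
universe v u

namespace Groth.Agent.Lib.Helper16

namespace SerreK0

open CategoryTheory CategoryTheory.Limits ResK0 K0Db ZeroObject

variable {A : Type u} [Category.{v} A] [Abelian A]

lemma cl_shortExact {S : ShortComplex A} (hS : S.ShortExact) :
    (KZero.cl S.X₂ : KZero.K0 A) = KZero.cl S.X₁ + KZero.cl S.X₃ := by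
  have h : FreeAbelianGroup.of S.X₂ - FreeAbelianGroup.of S.X₁ - FreeAbelianGroup.of S.X₃ ∈
      KZero.relAb A := AddSubgroup.subset_closure ⟨S, hS, rfl⟩
  have h2 := (QuotientAddGroup.eq_zero_iff _).mpr h
  rw [QuotientAddGroup.mk_sub, QuotientAddGroup.mk_sub, sub_sub, sub_eq_zero] at h2
  exact h2

lemma cl_ses {K L B : A} (hs : SES K L B) :
    (KZero.cl L : KZero.K0 A) = KZero.cl K + KZero.cl B := by
  obtain ⟨i, p, w, hS⟩ := hs
  exact cl_shortExact hS

lemma cl_of_isZero {Z : A} (hZ : IsZero Z) : (KZero.cl Z : KZero.K0 A) = 0 := by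
  have : Mono (0 : Z ⟶ Z) := hZ.mono _
  have : Epi (0 : Z ⟶ Z) := hZ.epi _
  have hs : SES Z Z Z := ses_of_lift (0 : Z ⟶ Z) (0 : Z ⟶ Z) (by simp)
    (fun k _ => ⟨k, hZ.eq_of_tgt _ _⟩)
  have := cl_ses hs
  simpa using this

/-- a short exact sequence `0 → X → Y → 0 → 0` from an isomorphism -/
lemma ses_of_iso {X Y Z : A} (e : X ≅ Y) (hZ : IsZero Z) : SES X Y Z := by
  have : Epi (0 : Y ⟶ Z) := hZ.epi _
  refine ses_of_lift e.hom (0 : Y ⟶ Z) (by simp) (fun k _ => ⟨k ≫ e.inv, by simp⟩)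

lemma cl_iso {X Y : A} (e : X ≅ Y) : (KZero.cl X : KZero.K0 A) = KZero.cl Y := by
  have := cl_ses (ses_of_iso e (isZero_zero A))
  rw [cl_of_isZero (isZero_zero A), add_zero] at this
  exact this.symm

lemma K0A_induction {p : KZero.K0 A → Prop} (x : KZero.K0 A)
    (h0 : p 0) (hg : ∀ X, p (KZero.cl X)) (hneg : ∀ x, p x → p (-x))
    (hadd : ∀ x y, p x → p y → p (x + y)) : p x := by
  induction x using QuotientAddGroup.induction_on with
  | H z =>
    induction z using FreeAbelianGroup.induction_on with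
    | zero => exact h0
    | of x => exact hg x
    | neg x ih => exact hneg _ ih
    | add x y hx hy => exact hadd _ _ hx hy

lemma K0A_hom_ext {G : Type*} [AddCommGroup G]
    (f g : KZero.K0 A →+ G) (h : ∀ X, f (KZero.cl X) = g (KZero.cl X)) (x : KZero.K0 A) :
    f x = g x := by
  induction x using K0A_induction with
  | h0 => rw [map_zero, map_zero]
  | hg X => exact h X
  | hneg x ih => rw [map_neg, map_neg, ih]
  | hadd x y hx hy => rw [map_add, map_add, hx, hy]

/-- homomorphisms out of `K0 A` from additive functions on objects -/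
noncomputable def K0Alift {G : Type*} [AddCommGroup G] (φ : A → G)
    (hφ : ∀ S : ShortComplex A, S.ShortExact → φ S.X₂ = φ S.X₁ + φ S.X₃) : KZero.K0 A →+ G :=
  QuotientAddGroup.lift (KZero.relAb A) (FreeAbelianGroup.lift φ) (by
    rw [KZero.relAb, AddSubgroup.closure_le]
    rintro x ⟨S, hS, rfl⟩
    simp only [SetLike.mem_coe, AddMonoidHom.mem_ker, map_sub, FreeAbelianGroup.lift_apply_of]
    rw [hφ S hS]
    abel)

lemma K0Alift_cl {G : Type*} [AddCommGroup G] (φ : A → G)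
    (hφ : ∀ S : ShortComplex A, S.ShortExact → φ S.X₂ = φ S.X₁ + φ S.X₃) (X : A) :
    K0Alift φ hφ (KZero.cl X) = φ X := by
  simp only [K0Alift, KZero.cl, QuotientAddGroup.lift_mk, FreeAbelianGroup.lift_apply_of]

/-- `0 → ker f → X → im f → 0` -/
lemma ses_kernel_image {X Y : A} (f : X ⟶ Y) : SES (kernel f) X (Abelian.image f) := by
  refine ses_of_lift (kernel.ι f) (Abelian.factorThruImage f) ?_ (fun {T} k hk => ?_)
  · rw [← cancel_mono (Abelian.image.ι f), Category.assoc, Abelian.image.fac, kernel.condition,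
      zero_comp]
  · refine ⟨kernel.lift f k ?_, kernel.lift_ι _ _ _⟩
    rw [← Abelian.image.fac f, ← Category.assoc, hk, zero_comp]

/-- `0 → im f → Y → coker f → 0` -/
lemma ses_image_cokernel {X Y : A} (f : X ⟶ Y) : SES (Abelian.image f) Y (cokernel f) :=
  ses_of_lift (Abelian.image.ι f) (cokernel.π f) (kernel.condition _)
    (fun k hk => ⟨kernel.lift _ k hk, kernel.lift_ι _ _ _⟩)

lemma cl_sub_cl_eq {X Y : A} (f : X ⟶ Y) :
    (KZero.cl X : KZero.K0 A) - KZero.cl Y = KZero.cl (kernel f) - KZero.cl (cokernel f) := by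
  rw [cl_ses (ses_kernel_image f), cl_ses (ses_image_cokernel f)]
  abel

section Sub

variable (P : ObjectProperty A)

lemma clP_iso [P.IsClosedUnderIsomorphisms] [P.ContainsZero] {X Y : A} (e : X ≅ Y) (hX : P X)
    (hY : P Y) : clP P X hX = clP P Y hY := by
  have h0 : P (0 : A) := P.prop_zero
  have := clP_ses (ses_of_iso e (isZero_zero A)) hX hY h0
  have hz : clP P (0 : A) h0 = 0 := by
    rw [← clSub_eq P h0]; exact clSub_of_isZero P (isZero_zero A)
  rw [hz, add_zero] at this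
  exact this.symm

lemma ses_biprod (X Y : A) : SES X (X ⊞ Y) Y :=
  ⟨biprod.inl, biprod.snd, by simp,
    (ShortComplex.Splitting.ofHasBinaryBiproduct X Y).shortExact⟩

lemma cl_biprod (X Y : A) : (KZero.cl (X ⊞ Y) : KZero.K0 A) = KZero.cl X + KZero.cl Y :=
  cl_ses (ses_biprod X Y)

lemma clP_biprod {X Y : A} (hX : P X) (hY : P Y) (hXY : P (X ⊞ Y)) :
    clP P (X ⊞ Y) hXY = clP P X hX + clP P Y hY :=
  clP_ses (ses_biprod X Y) hX hXY hY

lemma prop_biprod [P.IsClosedUnderExtensions] {X Y : A} (hX : P X) (hY : P Y) : P (X ⊞ Y) := by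
  obtain ⟨i, p, w, hS⟩ := ses_biprod X Y
  exact P.prop_X₂_of_shortExact hS hX hY

/-- every element of `K0sub P` is a difference of two classes -/
lemma exists_clP_sub_clP [P.IsClosedUnderIsomorphisms] [P.ContainsZero]
    [P.IsClosedUnderExtensions] (x : KZero.K0sub P) :
    ∃ (D₁ D₂ : A) (h₁ : P D₁) (h₂ : P D₂), x = clP P D₁ h₁ - clP P D₂ h₂ := by
  have h0 : P (0 : A) := P.prop_zero
  have hz : clP P (0 : A) h0 = 0 := by
    rw [← clSub_eq P h0]; exact clSub_of_isZero P (isZero_zero A)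
  induction x using K0sub_induction with
  | h0 => exact ⟨0, 0, h0, h0, by simp⟩
  | hg X hX => exact ⟨X, 0, hX, h0, by rw [hz, sub_zero]⟩
  | hneg x ih =>
    obtain ⟨D₁, D₂, h₁, h₂, rfl⟩ := ih
    exact ⟨D₂, D₁, h₂, h₁, by abel⟩
  | hadd x y hx hy =>
    obtain ⟨D₁, D₂, h₁, h₂, rfl⟩ := hx
    obtain ⟨E₁, E₂, k₁, k₂, rfl⟩ := hy
    refine ⟨D₁ ⊞ E₁, D₂ ⊞ E₂, prop_biprod P h₁ k₁, prop_biprod P h₂ k₂, ?_⟩
    rw [clP_biprod P h₁ k₁, clP_biprod P h₂ k₂]
    abel

end Sub

end SerreK0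

end Groth.Agent.Lib.Helper16
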