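import Groth.Agent.Lib.Helper16.SerreK0.K0A
import Groth.Agent.Lib.Helper16.SerreK0.Heller
import Mathlib.CategoryTheory.Abelian.SerreClass.Localization

/-!
# The exact sequence `K₀(P) → K₀(A) → K₀(A/P) → 0` for a Serre class (helper16)
-/

set_option autoImplicit false
set_option linter.unusedSectionVars false
universe v v' u u'

namespace Groth.Agent.Lib.Helper16

namespace SerreK0

open CategoryTheory CategoryTheory.Limits ResK0 K0Db ZeroObject

variable {A : Type u} [Category.{v} A] [Abelian A] (P : ObjectProperty A) [P.IsSerreClass]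

/-- `K₀(P) → K₀(A)` -/
noncomputable def iota : KZero.K0sub P →+ KZero.K0 A :=
  K0lift (fun X _ => KZero.cl X) (fun hs _ _ _ => cl_ses hs)

lemma iota_clP (X : A) (hX : P X) : iota P (clP P X hX) = KZero.cl X :=
  K0lift_clP (fun X _ => (KZero.cl X : KZero.K0 A)) (fun hs _ _ _ => cl_ses hs) X hX

lemma iota_clSub (X : A) (hX : P X) : iota P (KZero.clSub P X) = KZero.cl X := by
  rw [clSub_eq P hX, iota_clP]

lemma cl_mem_range_iota (X : A) (hX : P X) : (KZero.cl X : KZero.K0 A) ∈ (iota P).range :=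
  ⟨clP P X hX, iota_clP P X hX⟩

/-- a 2-periodic complex has `[H⁰] = [H¹]` in `K₀(A)` -/
lemma cl_homology_periodic {M : A} (φ ψ : M ⟶ M) (h₁ : φ ≫ ψ = 0) (h₂ : ψ ≫ φ = 0) :
    (KZero.cl (ShortComplex.mk φ ψ h₁).homology : KZero.K0 A) =
      KZero.cl (ShortComplex.mk ψ φ h₂).homology := by
  have key : ∀ (S : ShortComplex A), (KZero.cl S.homology : KZero.K0 A) =
      KZero.cl (kernel S.f) + KZero.cl (kernel S.g) - KZero.cl S.X₁ := by
    intro S
    have e1 := cl_sub_cl_eq S.toCycles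
    have i1 : (KZero.cl (kernel S.toCycles) : KZero.K0 A) = KZero.cl (kernel S.f) :=
      cl_iso ((kernelCompMono S.toCycles S.iCycles).symm ≪≫ kernelIsoOfEq S.toCycles_i)
    have i2 : (KZero.cl (cokernel S.toCycles) : KZero.K0 A) = KZero.cl S.homology :=
      cl_iso (IsColimit.coconePointUniqueUpToIso (cokernelIsCokernel S.toCycles)
        S.homologyIsCokernel)
    have i3 : (KZero.cl S.cycles : KZero.K0 A) = KZero.cl (kernel S.g) :=
      cl_iso S.cyclesIsoKernel
    rw [i1, i2, i3] at e1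
    rw [← sub_eq_zero] at e1 ⊢
    rw [← e1]; abel
  rw [key, key]
  dsimp
  abel

section Quotient

variable {Q : Type u'} [Category.{v'} Q] [Abelian Q]
  (L : A ⥤ Q) [L.IsLocalization P.isoModSerre] [L.Additive] [PreservesFiniteLimits L]
  [PreservesFiniteColimits L]

/-- `K₀(A) → K₀(A/P)` -/
noncomputable def lam : KZero.K0 A →+ KZero.K0 Q :=
  K0Alift (fun X => KZero.cl (L.obj X)) (fun _ hS => cl_shortExact (hS.map_of_exact L))

lemma lam_cl (X : A) : lam L (KZero.cl X) = KZero.cl (L.obj X) :=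
  K0Alift_cl _ _ X

include P in
lemma lam_surjective : Function.Surjective (lam L) := by
  have := Localization.essSurj L P.isoModSerre
  intro y
  rw [← AddMonoidHom.mem_range]
  induction y using K0A_induction with
  | h0 => exact zero_mem _
  | hg Y => exact ⟨KZero.cl (L.objPreimage Y), by
      rw [lam_cl]; exact cl_iso (L.objObjPreimageIso Y)⟩
  | hneg x ih => exact neg_mem ih
  | hadd x y hx hy => exact add_mem hx hy

lemma lam_iota (x : KZero.K0sub P) : lam L (iota P x) = 0 := by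
  refine K0sub_hom_ext ((lam L).comp (iota P)) 0 (fun X hX => ?_) x
  rw [AddMonoidHom.comp_apply, iota_clP, lam_cl, AddMonoidHom.zero_apply]
  exact cl_of_isZero ((ObjectProperty.SerreClassLocalization.isZero_obj_iff L P X).2 hX)

/-- a morphism which is an isomorphism modulo `P` -/
lemma cl_sub_mem_of_isoModSerre {X Y : A} (f : X ⟶ Y) (hf : P.isoModSerre f) :
    (KZero.cl X : KZero.K0 A) - KZero.cl Y ∈ (iota P).range := by
  rw [cl_sub_cl_eq f]
  exact sub_mem (cl_mem_range_iota P _ hf.1) (cl_mem_range_iota P _ hf.2)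

lemma cl_sub_mem_of_iso {X Y : A} (θ : L.obj X ≅ L.obj Y) :
    (KZero.cl X : KZero.K0 A) - KZero.cl Y ∈ (iota P).range := by
  obtain ⟨φ, hφ⟩ := Localization.exists_leftFraction L P.isoModSerre θ.hom
  have h1 : L.map φ.f = θ.hom ≫ L.map φ.s := by
    rw [hφ, MorphismProperty.LeftFraction.map_comp_map_s]
  have : IsIso (L.map φ.s) := Localization.inverts L P.isoModSerre _ φ.hs
  have h2 : IsIso (L.map φ.f) := by rw [h1]; infer_instance
  have hf : P.isoModSerre φ.f := (ObjectProperty.SerreClassLocalization.isIso_map_iff L P φ.f).1 h2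
  have a := cl_sub_mem_of_isoModSerre P φ.f hf
  have b := cl_sub_mem_of_isoModSerre P φ.s φ.hs
  have := sub_mem a b
  simpa using this

lemma cl_sub_mem_of_shortExact {T : ShortComplex Q} (hT : T.ShortExact) {X₁ X₂ X₃ : A}
    (e₁ : L.obj X₁ ≅ T.X₁) (e₂ : L.obj X₂ ≅ T.X₂) (e₃ : L.obj X₃ ≅ T.X₃) :
    (KZero.cl X₂ : KZero.K0 A) - KZero.cl X₁ - KZero.cl X₃ ∈ (iota P).range := by
  have := hT.epi_g
  obtain ⟨φ, hφ⟩ := Localization.exists_leftFraction L P.isoModSerre (e₂.hom ≫ T.g ≫ e₃.inv)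
  have hs : IsIso (L.map φ.s) := Localization.inverts L P.isoModSerre _ φ.hs
  have h1 : L.map φ.f = (e₂.hom ≫ T.g ≫ e₃.inv) ≫ L.map φ.s := by
    rw [hφ, MorphismProperty.LeftFraction.map_comp_map_s]
  have hepi : Epi (L.map φ.f) := by rw [h1]; infer_instance
  have hcok : P (cokernel φ.f) := (ObjectProperty.SerreClassLocalization.epi_map_iff L P φ.f).1 hepi
  -- the kernel
  let q : L.obj φ.Y' ≅ T.X₃ := (asIso (L.map φ.s)).symm ≪≫ e₃
  have hw : L.map φ.f ≫ q.hom = e₂.hom ≫ T.g := by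
    simp [q, h1]
  let θ : L.obj (kernel φ.f) ≅ L.obj X₁ :=
    PreservesKernel.iso L φ.f ≪≫ kernel.mapIso (L.map φ.f) T.g e₂ q hw ≪≫
      (IsLimit.conePointUniqueUpToIso (kernelIsKernel T.g) hT.fIsKernel : kernel T.g ≅ T.X₁) ≪≫
      e₁.symm
  have a := cl_sub_mem_of_iso P L θ
  have b := cl_sub_mem_of_isoModSerre P φ.s φ.hs
  have c := cl_mem_range_iota P _ hcok
  have e := cl_sub_cl_eq (A := A) φ.f
  have : (KZero.cl X₂ : KZero.K0 A) - KZero.cl X₁ - KZero.cl X₃ =
      (KZero.cl (kernel φ.f) - KZero.cl X₁) - (KZero.cl X₃ - KZero.cl φ.Y') -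
        KZero.cl (cokernel φ.f) := by
    rw [← sub_eq_zero] at e ⊢
    rw [← e]; abel
  rw [this]
  exact sub_mem (sub_mem a b) c

/-- `K₀(A/P) → K₀(A) / im K₀(P)` -/
noncomputable def mu : KZero.K0 Q →+ KZero.K0 A ⧸ (iota P).range :=
  have := Localization.essSurj L P.isoModSerre
  K0Alift (fun Y => QuotientAddGroup.mk (KZero.cl (L.objPreimage Y))) (fun T hT => by
    rw [← QuotientAddGroup.mk_add, eq_comm, QuotientAddGroup.eq, neg_add_eq_sub]
    have := cl_sub_mem_of_shortExact P L hT (L.objObjPreimageIso T.X₁)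
      (L.objObjPreimageIso T.X₂) (L.objObjPreimageIso T.X₃)
    rw [sub_sub] at this
    exact this)

lemma mu_lam (x : KZero.K0 A) : mu P L (lam L x) = QuotientAddGroup.mk x := by
  have := Localization.essSurj L P.isoModSerre
  refine K0A_hom_ext ((mu P L).comp (lam L)) (QuotientAddGroup.mk' _) (fun X => ?_) x
  rw [AddMonoidHom.comp_apply, lam_cl, mu, K0Alift_cl, QuotientAddGroup.mk'_apply,
    QuotientAddGroup.eq, neg_add_eq_sub]
  exact cl_sub_mem_of_iso P L (L.objObjPreimageIso (L.obj X)).symm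

lemma ker_lam : (lam L).ker = (iota P).range := by
  apply le_antisymm
  · intro x hx
    rw [AddMonoidHom.mem_ker] at hx
    have := mu_lam P L x
    rw [hx, map_zero, eq_comm, QuotientAddGroup.eq_zero_iff] at this
    exact this
  · rintro _ ⟨x, rfl⟩
    exact lam_iota P L x

end Quotient

/-- the kernel of `K₀(P) → K₀(A)` -/
lemma iota_eq_zero_iff (x : KZero.K0sub P) : iota P x = 0 ↔
    ∃ (M : A) (φ ψ : M ⟶ M) (h₁ : φ ≫ ψ = 0) (h₂ : ψ ≫ φ = 0),
      P (ShortComplex.mk φ ψ h₁).homology ∧ P (ShortComplex.mk ψ φ h₂).homology ∧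
      x = KZero.clSub P (ShortComplex.mk φ ψ h₁).homology -
        KZero.clSub P (ShortComplex.mk ψ φ h₂).homology := by
  constructor
  · intro hx
    obtain ⟨D₁, D₂, k₁, k₂, rfl⟩ := exists_clP_sub_clP P x
    rw [map_sub, iota_clP, iota_clP, sub_eq_zero] at hx
    obtain ⟨M, φ, ψ, h₁, h₂, ⟨e₁⟩, ⟨e₂⟩⟩ := exists_periodic_of_cl_eq hx
    have p₁ : P (ShortComplex.mk φ ψ h₁).homology := P.prop_of_iso e₁.symm k₁
    have p₂ : P (ShortComplex.mk ψ φ h₂).homology := P.prop_of_iso e₂.symm k₂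
    refine ⟨M, φ, ψ, h₁, h₂, p₁, p₂, ?_⟩
    rw [clSub_eq P p₁, clSub_eq P p₂, clP_iso P e₁ p₁ k₁, clP_iso P e₂ p₂ k₂]
  · rintro ⟨M, φ, ψ, h₁, h₂, p₁, p₂, rfl⟩
    rw [map_sub, iota_clSub P _ p₁, iota_clSub P _ p₂, sub_eq_zero]
    exact cl_homology_periodic φ ψ h₁ h₂

end SerreK0

end Groth.Agent.Lib.Helper16
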